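import Mathlib
import Cfsg.Prelude.Def_OddOrderLocal

set_option autoImplicit false

/-!
helper83: interface for the S1351 gap, part "NoCaseI + family count ⟹ NoBad".

A *bad pair* `Bad M E R0 r`: `M` maximal, `E` a complement of `M_σ` in `M`, `R0 ≤ E'` of order
`r ∈ κ(M)`.  `NoBad`: there is none (then S1351 follows: a Hall `κ(M)`-subgroup `K ≤ E` has
`K ∩ E' = 1`, so it is abelian with cyclic Sylow subgroups).

`NoCaseI` (helper9, Lemma X / Theorem Y of helper22): in a bad pair no `z ∈ E` of prime order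
`q ∈ κ(M)` moves `R0`.

Route (each `def` below is one piece; its docstring is its proof).
* A mover `y ∈ E` of order `q^(k+1)` exists (`Helper54.S52Stmt.YEx`), `q ∈ κ(M)` (`QKap`),
  `q ∈ τ₁(M)` (`Tau1`), `z = y^(q^k)` centralizes every subgroup of prime order of `E'` (`ZPr`),
  hence `E'` (`AbAut`), hence is central in `E` (`ZCen`); so `E` centralizes
  `C_{M_σ}(z) ≠ 1` (`EAct`, `SylGen`): `C := C_{M_σ}(E) ≠ 1` (`Fix`), `M` is of type P1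
  (`BadP1`) and `C_G(c) ≤ M` for `c ∈ C#` (`CentM`).
* In a maximal subgroup of type P1 every subgroup of prime order of a complement is normal in
  the complement (`LemN`, from `NoCaseI`).
* Family: `M` and the maximal subgroups `N ⊇ W := C E` with `σ(N)` meeting `π(E)` (`Mem`).
  Each prime of `E` has one (`PEx`, via `L3`); `σ(M) ∩ σ(N) = ∅` (`SDisj`); `C_G(x) ≤ N` for
  `x ∈ (E ∩ N_σ)#` (`CentN`); `N` is of type P1 (`NP1`: `N_σ` not nilpotent: S1429; nilpotent: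
  `RQN`, `NBad`, `BadP1`); `N = N_σ W` (`HCov`, via `FM`, `CN`); distinct members are not
  conjugate (`NConj`); `L ∩ L' ≤ W` (`HInt`).
* `Helper90.FamCount.main` kills the family (`S51Main`).
-/

namespace Cfsg.Agent.Lib.Helper83.S51Stmt

universe u

/-- A bad pair. -/
structure Bad {G : Type u} [Group G] (M E R0 : Subgroup G) (r : ℕ) : Prop where
  hM : IsCoatom M
  hE : Cfsg.IsComplIn E (Cfsg.sigmaCore M) M
  hr : r ∈ Cfsg.kappa M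
  card : Nat.card R0 = r
  le : R0 ≤ ⁅E, E⁆

/-- A mover: `y ∈ E` of order `q^(k+1)` not centralizing `R0`. -/
structure Mov {G : Type u} [Group G] (E R0 : Subgroup G) (q k : ℕ) (y : G) : Prop where
  hq : q.Prime
  hy : y ∈ E
  ord : orderOf y = q ^ (k + 1)
  mv : ¬ ∀ u ∈ R0, y * u = u * y

/-- `C = C_{M_σ}(E)`. -/
abbrev CE {G : Type u} [Group G] (M E : Subgroup G) : Subgroup G :=
  Cfsg.sigmaCore M ⊓ Subgroup.centralizer (E : Set G)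

/-- Type P1: every prime of `|M|` outside `σ(M)` is in `κ(M)`. -/
def IsP1 {G : Type u} [Group G] (M : Subgroup G) : Prop :=
  ∀ q : ℕ, q.Prime → q ∣ Nat.card M → q ∉ Cfsg.sigma M → q ∈ Cfsg.kappa M

/-- Every subgroup of prime order of `F` is normal in `F`. -/
def PNormal {G : Type u} [Group G] (F : Subgroup G) : Prop :=
  ∀ x ∈ F, (orderOf x).Prime → ∀ f ∈ F, f * x * f⁻¹ ∈ Subgroup.zpowers x

/-- A family member `N ≠ M`: maximal, `C E ≤ N`, `σ(N)` contains a prime of `|E|`. -/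
structure Mem {G : Type u} [Group G] (M E N : Subgroup G) : Prop where
  hN : IsCoatom N
  hC : CE M E ≤ N
  hE : E ≤ N
  hp : ∃ p : ℕ, p.Prime ∧ p ∣ Nat.card E ∧ p ∈ Cfsg.sigma N

/-- The goal of this part. -/
def NoBad : Prop :=
  ∀ {G : Type u} [Group G] [Finite G], Cfsg.IsMinSimpleOddOrder G →
  ∀ (M E R0 : Subgroup G) (r : ℕ), IsCoatom M → Cfsg.IsComplIn E (Cfsg.sigmaCore M) M →
    r ∈ Cfsg.kappa M → Nat.card R0 = r → R0 ≤ ⁅E, E⁆ → False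

/-- helper9's case (i) (identical to `Cfsg.Agent.Lib.Helper9.S51IStmt.NoCaseI`). -/
def NoCaseI : Prop :=
  ∀ {G : Type u} [Group G] [Finite G], Cfsg.IsMinSimpleOddOrder G →
  ∀ (M E R0 : Subgroup G) (r q : ℕ) (z : G), IsCoatom M →
    Cfsg.IsComplIn E (Cfsg.sigmaCore M) M → r ∈ Cfsg.kappa M → Nat.card R0 = r →
    R0 ≤ ⁅E, E⁆ → q ∈ Cfsg.kappa M → z ∈ E → orderOf z = q →
    ¬ (∀ u ∈ R0, z * u = u * z) → False

/-- NMAX: a nontrivial subgroup contained in a maximal subgroup has its normalizer in a maximal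
subgroup.  (`N_G(X) ≠ ⊤`, else `X ⊴ G` simple; as in `Helper22.S52HEX`.) -/
def NMax : Prop :=
  ∀ {G : Type u} [Group G] [Finite G], Cfsg.IsMinSimpleOddOrder G →
  ∀ (X M : Subgroup G), X ≠ ⊥ → IsCoatom M → X ≤ M →
    ∃ H : Subgroup G, IsCoatom H ∧ Subgroup.normalizer (X : Set G) ≤ H

/-- QKAP: the prime of a mover is in `κ(M)`.  (Suppose `q ∉ κ(M)`: this is verbatim the second
half of `Cfsg.Agent.Lib.Helper54.S52Main.kder`, from `have hqE` to the end, with the S52 pieces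
instantiated as in `Cfsg/Agent/S1352.lean`; `R0 ⊴ E` by `Helper24.S52NORM.main`.) -/
def QKap : Prop :=
  ∀ {G : Type u} [Group G] [Finite G], Cfsg.IsMinSimpleOddOrder G →
  ∀ (M E R0 : Subgroup G) (r q k : ℕ) (y : G), Bad M E R0 r → Mov E R0 q k y →
    q ∈ Cfsg.kappa M

/-- TAU1: the prime of a mover is in `τ₁(M)`.  (`q ∈ κ(M)` gives `q` prime, `q ∉ σ(M)`,
`q ∣ |M|`, rank `≤ 1` (`Helper60.BG14SIGDEC.pRankLE_one_of_kappa`).  If `q ∣ |M'|` then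
`q ∈ τ₃(M)`; a Hall `τ₃(M)`-subgroup `E₃` of `E` exists (`Helper1.BG143HALLK`, `E` solvable),
is normal in `E` and inside `E'` (S1415); `y` is `E`-conjugate into `E₃` (`q ∤ |E : E₃|`;
`Helper83.ZhatCore.exists_conj_mem_of_not_dvd_relIndex`), so `y ∈ E₃ ≤ E'`; `E'` is abelian
(S1420, second conjunct) and contains `R0`: `y` centralizes `R0`, contradiction.) -/
def Tau1 : Prop :=
  ∀ {G : Type u} [Group G] [Finite G], Cfsg.IsMinSimpleOddOrder G →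
  ∀ (M E R0 : Subgroup G) (r q k : ℕ) (y : G), Bad M E R0 r → Mov E R0 q k y →
    q ∈ Cfsg.tau1 M

/-- L3 (helper73, board #4393): `r ∈ κ(M)`, `R0 ≤ M` of order `r`, `H` maximal over `N_G(R0)`
⟹ `r ∈ σ(H)`. -/
def L3 : Prop :=
  ∀ {G : Type u} [Group G] [Finite G], Cfsg.IsMinSimpleOddOrder G →
  ∀ (M R0 H : Subgroup G) (r : ℕ), IsCoatom M → r ∈ Cfsg.kappa M → R0 ≤ M → Nat.card R0 = r →
    IsCoatom H → Subgroup.normalizer (R0 : Set G) ≤ H → r ∈ Cfsg.sigma H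

/-- ASIG: if `z = y^(q^k)` centralizes `R0` and `H` is maximal over `N_G(R0)` then
`r, q ∈ σ(H)`.  (`r ∈ σ(H)`: `L3`.  `H'` maximal over `N_G(⟨z⟩)` (`NMax`); `q ∈ σ(H')` (`L3`,
`q ∈ κ(M)` by `QKap`); `y ∈ C_G(z) ≤ H'` is a `q`-element, so `y ∈ H'_σ`
(`Helper9.BG11b.le_sigmaCore_of_isPGroup`); `R0 ≤ C_G(z) ≤ H'`; `y` normalizes `R0` (S52NORM), so
`[y, u] ∈ R0 ∩ H'_σ` for `u ∈ R0`, and some `[y, u] ≠ 1`: `R0 ≤ H'_σ`, `r ∈ σ(H')`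
(`mem_sigma_of_dvd`).  S1378: `H' = gHg⁻¹`, `σ(H') = σ(H)` (`sigma_cj`).) -/
def ASig : Prop :=
  ∀ {G : Type u} [Group G] [Finite G], Cfsg.IsMinSimpleOddOrder G →
  ∀ (M E R0 H : Subgroup G) (r q k : ℕ) (y : G), Bad M E R0 r → Mov E R0 q k y →
    (∀ u ∈ R0, y ^ q ^ k * u = u * y ^ q ^ k) → IsCoatom H →
    Subgroup.normalizer (R0 : Set G) ≤ H → r ∈ Cfsg.sigma H ∧ q ∈ Cfsg.sigma H

/-- GF: for maximal `M`, `N` with `σ(M) ∩ σ(N) = ∅`, `M_σ ∩ N` and `M ∩ N_σ` commute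
elementwise.  (`a b a⁻¹ b⁻¹ ∈ M_σ ∩ N_σ = 1`: coprime orders.) -/
def GF : Prop :=
  ∀ {G : Type u} [Group G] [Finite G], Cfsg.IsMinSimpleOddOrder G →
  ∀ (M N : Subgroup G), IsCoatom M → IsCoatom N →
    (∀ p, p ∈ Cfsg.sigma M → p ∉ Cfsg.sigma N) →
    ∀ a ∈ Cfsg.sigmaCore M, a ∈ N → ∀ b ∈ Cfsg.sigmaCore N, b ∈ M → a * b = b * a

/-- ABAUT (pure group theory): `A` abelian, `z` normalizes `A`, `z^q = 1`, `q` prime,
`q ∤ |A|`, `z` commutes with every element of prime order of `A` ⟹ `z` centralizes `A`.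
(If `b := z a z⁻¹ a⁻¹ ≠ 1`, a power `b' = b^m = z c z⁻¹ c⁻¹` (`c = a^m`; `A` abelian) has prime
order `t`; `z` commutes with `b'`, so `z^i c z^(-i) = b'^i c` by induction; `i = q`: `b'^q = 1`,
`t = q`, but `t ∣ |A|`.) -/
def AbAut : Prop :=
  ∀ {G : Type u} [Group G] [Finite G] (A : Subgroup G) (z : G) (q : ℕ), q.Prime →
    (∀ a ∈ A, ∀ b ∈ A, a * b = b * a) → z ∈ Subgroup.normalizer (A : Set G) → z ^ q = 1 →
    ¬ q ∣ Nat.card A → (∀ a ∈ A, (orderOf a).Prime → z * a = a * z) →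
    ∀ a ∈ A, z * a = a * z

/-- ZPR: `z = y^(q^k)` centralizes every subgroup `R'` of prime order `r'` of `E'`.
(`z` has order `q ∈ κ(M)` (`QKap`), so `NoCaseI` gives `[z, R0] = 1`.  `H` maximal over
`N_G(R0)` (`NMax`); `E ≤ N_G(R0) ≤ H` (S52NORM); `r, q ∈ σ(H)` (`ASig`); `σ(M) ∩ σ(H) = ∅`
(S1378, `sigma_cj`, `r ∉ σ(M)`); `z ∈ H_σ`.  `C' := M_σ ∩ C(z) ≠ 1` (`Helper76.S52CNE`), and
`C' ≤ M_σ ∩ C(R0) ≤ N_G(R0) ≤ H` (S1428 with `P = ⟨z⟩`, `q ∈ τ₁(M)` by `Tau1`, `R = R0`).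
`r' ∉ σ(M)` (`r' ∣ |E|`), `M` has `r'`-rank `≤ 1` (`Helper90.BG143R2.main`, S52NOT2), so
`R' ⊴ E` (S52NORM).  If `R' ≤ H_σ`: `R'` centralizes `C'` (`GF`), `r' ∈ κ(M)`
(`Helper59.BG143MEMKAPPA`), `NoCaseI` for `(M, E, R', r', q, z)`.  Otherwise `R' ∩ H_σ = 1` and
`[z, u] ∈ R' ∩ H_σ` for `u ∈ R'`.) -/
def ZPr : Prop :=
  ∀ {G : Type u} [Group G] [Finite G], Cfsg.IsMinSimpleOddOrder G →
  ∀ (M E R0 : Subgroup G) (r q k : ℕ) (y : G), Bad M E R0 r → Mov E R0 q k y →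
  ∀ R' : Subgroup G, R' ≤ ⁅E, E⁆ → (Nat.card R').Prime →
    ∀ u ∈ R', y ^ q ^ k * u = u * y ^ q ^ k

/-- ZCEN: `z = y^(q^k)` is central in `E`.  (`A := E'` is abelian (S1420), normalized by
`z ∈ E`, `z^q = 1`, `q ∤ |E'|` (`Tau1`: `q ∤ |M'|`, `E' ≤ M'`); `ZPr` + `AbAut`: `z` centralizes
`E'`.  For `e ∈ E`: `u := e z e⁻¹ z⁻¹ ∈ E'` commutes with `z`, `1 = (e z e⁻¹)^q = (u z)^q =
u^q`, so `u = 1`.) -/
def ZCen : Prop :=
  ∀ {G : Type u} [Group G] [Finite G], Cfsg.IsMinSimpleOddOrder G →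
  ∀ (M E R0 : Subgroup G) (r q k : ℕ) (y : G), Bad M E R0 r → Mov E R0 q k y →
    ∀ e ∈ E, y ^ q ^ k * e = e * y ^ q ^ k

/-- SYLGEN (pure group theory): a subgroup containing a (hence every) Sylow `p`-subgroup of `E`
for every prime `p` contains `E`.  (`|K ∩ E|` is divisible by every prime power part of `|E|`.) -/
def SylGen : Prop :=
  ∀ {G : Type u} [Group G] [Finite G] (E K : Subgroup G),
    (∀ (p : ℕ) [Fact p.Prime] (S : Sylow p E), (S : Subgroup E).map E.subtype ≤ K) → E ≤ K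

/-- EACT: `τ₂(M) = ∅`, `z ∈ Z(E)` of prime order `q ∈ τ₁(M)` ⟹ `E` centralizes `C_{M_σ}(z)`.
(`S ≠ 1` a Sylow `p`-subgroup of `E`: cyclic (rank `≤ 1` as in `S52Main.kder`, `hSylc`), `R ≤ S`
of order `p`; S1428 (`P = ⟨z⟩`, `R`): `M_σ ∩ C(z) ≤ M_σ ∩ C(R)`; S1427: `= M_σ ∩ C(S)`.  So
`K := C_G(M_σ ∩ C(z))` contains every Sylow subgroup of `E`: `SylGen`.) -/
def EAct : Prop :=
  ∀ {G : Type u} [Group G] [Finite G], Cfsg.IsMinSimpleOddOrder G →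
  ∀ (M E : Subgroup G) (q : ℕ) (z : G), IsCoatom M → Cfsg.IsComplIn E (Cfsg.sigmaCore M) M →
    (∀ p, p ∉ Cfsg.tau2 M) → q ∈ Cfsg.tau1 M → z ∈ E → orderOf z = q →
    (∀ e ∈ E, z * e = e * z) →
    Cfsg.sigmaCore M ⊓ Subgroup.centralizer ({z} : Set G) ≤ Subgroup.centralizer (E : Set G)

/-- FIX: in a bad pair `C_{M_σ}(E) ≠ 1`, and it is `C_{M_σ}(z)` for some `z ∈ E` of prime order.
(`y` from `Helper54.S52Stmt.YEx` as in `S52Main.kder`; `z := y^(q^k)` of order `q`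
(`Helper54.BG139R.orderOf_pow_prime`); `QKap`, `Tau1`, `ZCen`, S52NOT2, `EAct`;
`M_σ ∩ C(z) ≠ 1` by `Helper76.S52CNE`.) -/
def Fix : Prop :=
  ∀ {G : Type u} [Group G] [Finite G], Cfsg.IsMinSimpleOddOrder G →
  ∀ (M E R0 : Subgroup G) (r : ℕ), Bad M E R0 r →
    CE M E ≠ ⊥ ∧ ∃ z ∈ E, (orderOf z).Prime ∧
      Cfsg.sigmaCore M ⊓ Subgroup.centralizer ({z} : Set G) ≤ Subgroup.centralizer (E : Set G)

/-- BADP1: a bad `M` is of type P1.  (`q ∣ |M|`, `q ∉ σ(M)`: `q ∣ |E|`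
(`Helper23.TypeP.card_of_isComplIn`, `not_dvd_sigmaCore`), `e ∈ E` of order `q` commutes with
`c ≠ 1` in `C_{M_σ}(E)` (`Fix`): `Helper73.BG143Final` `Primes` gives `κ(M)` or `τ₂(M)`;
`τ₂(M) = ∅` by S52NOT2.) -/
def BadP1 : Prop :=
  ∀ {G : Type u} [Group G] [Finite G], Cfsg.IsMinSimpleOddOrder G →
  ∀ (M E R0 : Subgroup G) (r : ℕ), Bad M E R0 r → IsP1 M

/-- LEMN: in a maximal `N` of type P1 every subgroup of prime order of a complement `F` of `N_σ`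
is normal in `F`.  (`x ∈ F` of order `p`; `p ∈ κ(N)`, rank `≤ 1`.  If `p ∣ |F'|`: `P' ≤ F'` of
order `p` is normal in `F` (S52NORM); if `⟨x⟩ ≠ P'` then `P'⟨x⟩` is elementary abelian of order
`p²`, against the rank.  If `p ∤ |F'|`: `F'` is abelian (S1420); every `a ∈ F'` of prime order
`r'` gives a bad pair `(N, F, ⟨a⟩, r')` (`r' ∈ κ(N)`: P1), so `x` commutes with `a` (`NoCaseI`);
`AbAut`: `x` centralizes `F'`; for `f ∈ F`, `u := f x f⁻¹ x⁻¹ ∈ F'` commutes with `x` and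
`u^p = 1`, so `u = 1`.) -/
def LemN : Prop :=
  ∀ {G : Type u} [Group G] [Finite G], Cfsg.IsMinSimpleOddOrder G →
  ∀ (N F : Subgroup G), IsCoatom N → Cfsg.IsComplIn F (Cfsg.sigmaCore N) N → IsP1 N →
    PNormal F

/-- CENTM: `C_G(c) ≤ M` for `1 ≠ c ∈ C_{M_σ}(E)`.  (`E ≠ 1`; `e ∈ E` of prime order `p`,
`p ∈ κ(M)` (`BadP1`), `Helper63.S67ClaimC.claimC`.) -/
def CentM : Prop :=
  ∀ {G : Type u} [Group G] [Finite G], Cfsg.IsMinSimpleOddOrder G →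
  ∀ (M E R0 : Subgroup G) (r : ℕ), Bad M E R0 r →
    ∀ c ∈ CE M E, c ≠ 1 → Subgroup.centralizer ({c} : Set G) ≤ M

/-- PEX: every prime `p` of `|E|` has a family member `N` with `p ∈ σ(N)`.  (`x ∈ E` of order
`p`; `⟨x⟩ ⊴ E` (`LemN` for `(M, E)`, `BadP1`), `C_{M_σ}(E) ≤ C_G(x)`; `N` maximal over
`N_G(⟨x⟩)` (`NMax`); `p ∈ κ(M)` (`BadP1`), `L3`.) -/
def PEx : Prop :=
  ∀ {G : Type u} [Group G] [Finite G], Cfsg.IsMinSimpleOddOrder G →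
  ∀ (M E R0 : Subgroup G) (r : ℕ), Bad M E R0 r → ∀ p : ℕ, p.Prime → p ∣ Nat.card E →
    ∃ N : Subgroup G, Mem M E N ∧ p ∈ Cfsg.sigma N

/-- SDISJ: `σ(M) ∩ σ(N) = ∅` for a member `N`.  (Else S1378: `N = gMg⁻¹`, `σ(N) = σ(M)`
(`sigma_cj`), but the prime `p₀ ∣ |E|` of `σ(N)` is not in `σ(M)`
(`Helper22.BG1210.not_dvd_compl_of_sigma`).) -/
def SDisj : Prop :=
  ∀ {G : Type u} [Group G] [Finite G], Cfsg.IsMinSimpleOddOrder G →
  ∀ (M E N : Subgroup G), IsCoatom M → Cfsg.IsComplIn E (Cfsg.sigmaCore M) M → Mem M E N →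
    ∀ p, p ∈ Cfsg.sigma M → p ∉ Cfsg.sigma N

/-- CENTN: `C_G(x) ≤ N` for `1 ≠ x ∈ E ∩ N_σ`.  (`c ∈ C_{M_σ}(E)` of prime order `t` (`Fix`),
`c ∈ N`, `c` commutes with `x`, `t ∈ σ(M)`, so `t ∉ σ(N)` (`SDisj`).  S1432 for `(N, x, c)`:
first alternative: done; second: `N` is the only maximal subgroup over `C_G(c)`, but
`C_G(c) ≤ M` (`CentM`) and `M ≠ N` (`SDisj`, `t ∈ σ(M)`).) -/
def CentN : Prop :=
  ∀ {G : Type u} [Group G] [Finite G], Cfsg.IsMinSimpleOddOrder G →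
  ∀ (M E R0 N : Subgroup G) (r : ℕ), Bad M E R0 r → Mem M E N →
    ∀ x ∈ E ⊓ Cfsg.sigmaCore N, x ≠ 1 → Subgroup.centralizer ({x} : Set G) ≤ N

/-- RQN: if `N_σ` is nilpotent for a member `N`, then `r, q ∉ σ(N)`.  (`z = y^(q^k)`
centralizes `R0` (`NoCaseI`, `QKap`); `H` maximal over `N_G(R0)` (`NMax`): `r, q ∈ σ(H)`
(`ASig`).  If `r ∈ σ(N)` or `q ∈ σ(N)`: S1378, `N = gHg⁻¹`, `σ(N) = σ(H)`, so `R0, ⟨y⟩ ≤ N_σ`
(`E ≤ N`; `le_sigmaCore_of_isPGroup`); in the nilpotent `N_σ` the normal Sylow `r`- and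
`q`-subgroups commute, so `y` centralizes `R0`.) -/
def RQN : Prop :=
  ∀ {G : Type u} [Group G] [Finite G], Cfsg.IsMinSimpleOddOrder G →
  ∀ (M E R0 N : Subgroup G) (r q k : ℕ) (y : G), Bad M E R0 r → Mov E R0 q k y → Mem M E N →
    Group.IsNilpotent ↥(Cfsg.sigmaCore N) → r ∉ Cfsg.sigma N ∧ q ∉ Cfsg.sigma N

/-- NBAD: if `r, q ∉ σ(N)` for a member `N`, then `N` has a bad pair `(N, F, R0, r)`.
(`X := R0 ⟨y⟩ ≤ E ≤ N` has order dividing `r q^(k+1)` (`Helper54.S52Stmt.XCop` with `C = ⊥`),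
coprime to `|N_σ|`; `F ⊇ X` a complement (`Helper23.BG1361.exists_compl_ge`).  `R0 ≤ F'`: some
`[y, u] ≠ 1`, `u ∈ R0`, generates `R0`.  `r ∈ κ(N)`: `d ≠ 1` in `D := E ∩ N_σ` (an element of
order `p₀` of `E`), `[u, d] ∈ R0 ∩ N_σ = 1` (`R0, D ⊴ E`); S1432 for `(N, d, u)`, `u` a generator
of `R0`: first alternative: `r ∈ κ(N)`; second: `N` is the only maximal subgroup over
`C_G(u) = C_G(R0) ≤ N_G(R0) ≤ H` (`H` from `NMax`), so `H = N`, but `r ∈ σ(H)` (`L3`).) -/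
def NBad : Prop :=
  ∀ {G : Type u} [Group G] [Finite G], Cfsg.IsMinSimpleOddOrder G →
  ∀ (M E R0 N : Subgroup G) (r q k : ℕ) (y : G), Bad M E R0 r → Mov E R0 q k y → Mem M E N →
    r ∉ Cfsg.sigma N → q ∉ Cfsg.sigma N → ∃ F : Subgroup G, Bad N F R0 r

/-- NP1: every member `N` is of type P1.  (`N_σ` not nilpotent: S1429 (contrapositive).
Nilpotent: `y` from `YEx` as in `S52Main.kder`, `RQN`, `NBad`, `BadP1` for `N`.) -/
def NP1 : Prop :=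
  ∀ {G : Type u} [Group G] [Finite G], Cfsg.IsMinSimpleOddOrder G →
  ∀ (M E R0 N : Subgroup G) (r : ℕ), Bad M E R0 r → Mem M E N → IsP1 N

/-- FM: a complement `F ⊇ C_{M_σ}(E)` of `N_σ` in `N` with `PNormal F` lies in `M`.
(`c ∈ C_{M_σ}(E)` of prime order `t` (`Fix`); `F ≤ N_G(⟨c⟩)`; S1404 for `(M, t, ⟨c⟩)`:
`N_G(⟨c⟩) = N_M(⟨c⟩) C_G(⟨c⟩) ≤ M` (`CentM`).) -/
def FM : Prop :=
  ∀ {G : Type u} [Group G] [Finite G], Cfsg.IsMinSimpleOddOrder G →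
  ∀ (M E R0 N F : Subgroup G) (r : ℕ), Bad M E R0 r → Mem M E N →
    Cfsg.IsComplIn F (Cfsg.sigmaCore N) N → PNormal F → CE M E ≤ F → F ≤ M

/-- CN: if moreover `M_σ ∩ N ≤ F ≤ M`, then `M_σ ∩ N ≤ C_{M_σ}(E)`.  (`z ∈ E` of prime order
`q` with `M_σ ∩ C(z) ≤ C(E)` (`Fix`).  `z = f n`, `f ∈ F`, `n ∈ N_σ ∩ M`.  For `a ∈ M_σ ∩ N`:
`n` commutes with `a` (`GF`, `SDisj`); `f^q ∈ F ∩ N_σ = 1` (powers modulo `N_σ`), so `f = 1` or
`f` has order `q`: `a f a⁻¹ ∈ ⟨f⟩` (`PNormal`, `a ∈ F`), and `a f a⁻¹ f⁻¹ ∈ ⟨f⟩ ∩ M_σ = 1`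
(`q ∉ σ(M)`).  So `z` commutes with `a`.) -/
def CN : Prop :=
  ∀ {G : Type u} [Group G] [Finite G], Cfsg.IsMinSimpleOddOrder G →
  ∀ (M E R0 N F : Subgroup G) (r : ℕ), Bad M E R0 r → Mem M E N →
    Cfsg.IsComplIn F (Cfsg.sigmaCore N) N → PNormal F → Cfsg.sigmaCore M ⊓ N ≤ F → F ≤ M →
    Cfsg.sigmaCore M ⊓ N ≤ CE M E

/-- HCOV: `N = N_σ W`, `W = C_{M_σ}(E) E`.  (`NP1`; `X := M_σ ∩ N` has order prime to `|N_σ|`
(`SDisj`), `F ⊇ X` a complement (`exists_compl_ge`); `LemN`: `PNormal F`; `FM`: `F ≤ M`; `CN`: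
`X ≤ C_{M_σ}(E)`.  `m = f n`; `f = e s`, `e ∈ E`, `s ∈ M_σ ∩ N = X`: `f ∈ W`;
`m = (f n f⁻¹) f`.) -/
def HCov : Prop :=
  ∀ {G : Type u} [Group G] [Finite G], Cfsg.IsMinSimpleOddOrder G →
  ∀ (M E R0 N : Subgroup G) (r : ℕ), Bad M E R0 r → Mem M E N →
    ∀ m ∈ N, ∃ a ∈ Cfsg.sigmaCore N, ∃ b ∈ CE M E ⊔ E, m = a * b

/-- NCONJ: a member is not conjugate to `M`, and distinct members are not conjugate.
(First: `SDisj` and a prime of `|C_{M_σ}(E)|` (`Fix`).  Second: `N' = gNg⁻¹`; `x ∈ E` of order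
`p₀ ∈ σ(N)`, `x ∈ N_σ`, `g⁻¹ x g ∈ N`; S1404 for `(N, p₀, ⟨x⟩)` and `h = g⁻¹`: `g⁻¹ = m c`,
`c ∈ C_G(x) ≤ N` (`CentN`); so `g ∈ N`, `N' = N`.) -/
def NConj : Prop :=
  ∀ {G : Type u} [Group G] [Finite G], Cfsg.IsMinSimpleOddOrder G →
  ∀ (M E R0 N : Subgroup G) (r : ℕ), Bad M E R0 r → Mem M E N →
    (∀ g : G, N ≠ M.map (MulAut.conj g).toMonoidHom) ∧
    ∀ N' : Subgroup G, Mem M E N' → N' ≠ N → ∀ g : G, N' ≠ N.map (MulAut.conj g).toMonoidHom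

/-- HINT: `L ∩ L' ≤ W` when `L = L_σ W`, `L' = L'_σ W`, `σ(L) ∩ σ(L') = ∅`.  (`x = a w`,
`a ∈ L_σ ∩ L'`; `a = a' w'`, `a' ∈ L'_σ ∩ L`; `a a' = a' a` (`GF`), `w' = a'⁻¹ a` with coprime
orders, so `a` is a power of `w' ∈ W`.) -/
def HInt : Prop :=
  ∀ {G : Type u} [Group G] [Finite G], Cfsg.IsMinSimpleOddOrder G →
  ∀ (L L' W : Subgroup G), IsCoatom L → IsCoatom L' →
    (∀ p, p ∈ Cfsg.sigma L → p ∉ Cfsg.sigma L') → W ≤ L → W ≤ L' →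
    (∀ m ∈ L, ∃ a ∈ Cfsg.sigmaCore L, ∃ b ∈ W, m = a * b) →
    (∀ m ∈ L', ∃ a ∈ Cfsg.sigmaCore L', ∃ b ∈ W, m = a * b) → L ⊓ L' ≤ W

/-- WSPLIT: an element of `W = C_{M_σ}(E) E` in `N_σ` lies in `E`.  (`x = c e` commuting;
`x^|E| = c^|E| ∈ M_σ ∩ N_σ = 1` (`SDisj`), so `c = 1`.) -/
def WSplit : Prop :=
  ∀ {G : Type u} [Group G] [Finite G], Cfsg.IsMinSimpleOddOrder G →
  ∀ (M E N : Subgroup G), IsCoatom M → Cfsg.IsComplIn E (Cfsg.sigmaCore M) M → Mem M E N →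
    ∀ x ∈ (CE M E ⊔ E) ⊓ Cfsg.sigmaCore N, x ∈ E

end Cfsg.Agent.Lib.Helper83.S51Stmt
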