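import Mathlib
import Cfsg.Prelude.Def_RootSubgroups
import Cfsg.Prelude.Def_Classical

/-!
# Siegel transvection groups of the hyperbolic quadratic space (S5072): shared definitions and
piece statements

`Vec m F = F^(2(m+3))` with `Q = quadFormPlus (m+3) F`, polar form `bp`, isometry group `OG m F`.
`Sg m F p r` is the Siegel transvection group of the line `⟨p, r⟩` exactly as in the statement
S5072, `Sig m F` the set of these groups.  The piece statements are `Prop`-valued definitions.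
-/

set_option autoImplicit false
open Matrix

namespace Cfsg.Agent.Lib.Helper83.SgStmt

open Cfsg

universe u v

section Defs

variable (m : ℕ) (F : Type u) [Field F]

/-- The ambient space `F^(2(m+3))`. -/
abbrev Vec : Type u := Fin (m + 3) ⊕ Fin (m + 3) → F

/-- The isometry group of the hyperbolic quadratic form. -/
abbrev OG : Type u := ↥(Cfsg.isometryGroup F (Cfsg.quadFormPlus (m + 3) F))

/-- The polar form of the quadratic form. -/
def bp (v w : Vec m F) : F :=
  Cfsg.quadFormPlus (m + 3) F (v + w) - Cfsg.quadFormPlus (m + 3) F v -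
    Cfsg.quadFormPlus (m + 3) F w

/-- The action of an isometry on vectors. -/
def act (g : OG m F) (v : Vec m F) : Vec m F :=
  ((g : Matrix.GeneralLinearGroup (Fin (m + 3) ⊕ Fin (m + 3)) F) :
    Matrix (Fin (m + 3) ⊕ Fin (m + 3)) (Fin (m + 3) ⊕ Fin (m + 3)) F) *ᵥ v

/-- `p, r` span a singular line. -/
def IsLine (p r : Vec m F) : Prop :=
  LinearIndependent F ![p, r] ∧ Cfsg.quadFormPlus (m + 3) F p = 0 ∧
    Cfsg.quadFormPlus (m + 3) F r = 0 ∧ Cfsg.quadFormPlus (m + 3) F (p + r) = 0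

/-- The Siegel transvection group of the line spanned by `p, r` (as in S5072). -/
def Sg (p r : Vec m F) : Subgroup (OG m F) :=
  Subgroup.closure {σ : ↥(Cfsg.isometryGroup F (Cfsg.quadFormPlus (m + 3) F)) |
    ∀ v : Fin (m + 3) ⊕ Fin (m + 3) → F,
      Cfsg.quadFormPlus (m + 3) F (v + p) - Cfsg.quadFormPlus (m + 3) F v -
        Cfsg.quadFormPlus (m + 3) F p = 0 →
      Cfsg.quadFormPlus (m + 3) F (v + r) - Cfsg.quadFormPlus (m + 3) F v -
        Cfsg.quadFormPlus (m + 3) F r = 0 →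
      ((σ : Matrix.GeneralLinearGroup (Fin (m + 3) ⊕ Fin (m + 3)) F) :
        Matrix (Fin (m + 3) ⊕ Fin (m + 3)) (Fin (m + 3) ⊕ Fin (m + 3)) F) *ᵥ v = v}

/-- The set of Siegel transvection groups (as in S5072). -/
def Sig : Set (Subgroup (OG m F)) :=
  {A : Subgroup ↥(Cfsg.isometryGroup F (Cfsg.quadFormPlus (m + 3) F)) |
    ∃ p r : Fin (m + 3) ⊕ Fin (m + 3) → F, LinearIndependent F ![p, r] ∧
      Cfsg.quadFormPlus (m + 3) F p = 0 ∧ Cfsg.quadFormPlus (m + 3) F r = 0 ∧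
      Cfsg.quadFormPlus (m + 3) F (p + r) = 0 ∧
      A = Subgroup.closure {σ : ↥(Cfsg.isometryGroup F (Cfsg.quadFormPlus (m + 3) F)) |
        ∀ v : Fin (m + 3) ⊕ Fin (m + 3) → F,
          Cfsg.quadFormPlus (m + 3) F (v + p) - Cfsg.quadFormPlus (m + 3) F v -
            Cfsg.quadFormPlus (m + 3) F p = 0 →
          Cfsg.quadFormPlus (m + 3) F (v + r) - Cfsg.quadFormPlus (m + 3) F v -
            Cfsg.quadFormPlus (m + 3) F r = 0 →
          ((σ : Matrix.GeneralLinearGroup (Fin (m + 3) ⊕ Fin (m + 3)) F) :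
            Matrix (Fin (m + 3) ⊕ Fin (m + 3)) (Fin (m + 3) ⊕ Fin (m + 3)) F) *ᵥ v = v}}

theorem mem_Sig {A : Subgroup (OG m F)} :
    A ∈ Sig m F ↔ ∃ p r : Vec m F, IsLine m F p r ∧ A = Sg m F p r :=
  ⟨fun ⟨p, r, h1, h2, h3, h4, h5⟩ => ⟨p, r, ⟨h1, h2, h3, h4⟩, h5⟩,
   fun ⟨p, r, ⟨h1, h2, h3, h4⟩, h5⟩ => ⟨p, r, h1, h2, h3, h4, h5⟩⟩

theorem mem_Sg_gen {p r : Vec m F} {σ : OG m F}
    (h : ∀ v : Vec m F, bp m F v p = 0 → bp m F v r = 0 → act m F σ v = v) :
    σ ∈ Sg m F p r :=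
  Subgroup.subset_closure h

/-- `g` is the Siegel transvection `v ↦ v + c (β(v,r) p - β(v,p) r)`. -/
def IsSieg (p r : Vec m F) (c : F) (g : OG m F) : Prop :=
  ∀ v : Vec m F, act m F g v = v + c • (bp m F v r • p - bp m F v p • r)

end Defs

/-- Piece SIEGE: the Siegel transvections exist (as isometries). -/
def SIEGE : Prop := ∀ (m : ℕ) (F : Type u) [Field F] (p r : Vec m F), IsLine m F p r →
  ∀ c : F, ∃ g : OG m F, IsSieg m F p r c g

/-- Piece SIEGG: an isometry fixing `⟨p, r⟩^⊥` pointwise is a Siegel transvection. -/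
def SIEGG : Prop := ∀ (m : ℕ) (F : Type u) [Field F] (p r : Vec m F), IsLine m F p r →
  ∀ σ : OG m F, (∀ v : Vec m F, bp m F v p = 0 → bp m F v r = 0 → act m F σ v = v) →
  ∃ c : F, IsSieg m F p r c σ

/-- Membership in the Siegel transvection group. -/
def SIEGM : Prop := ∀ (m : ℕ) (F : Type u) [Field F] (p r : Vec m F), IsLine m F p r →
  ∀ g : OG m F, g ∈ Sg m F p r ↔ ∃ c : F, IsSieg m F p r c g

/-- Piece SIEGC: the closure step, from SIEGG. -/
def SIEGC : Prop := SIEGG.{u} → SIEGM.{u}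

/-- The explicit description of the Siegel transvection groups (SIEGE and SIEGM together). -/
def SIEG : Prop := SIEGE.{u} ∧ SIEGM.{u}

/-- Piece SPAN: the group depends only on the span. -/
def SPAN : Prop := ∀ (m : ℕ) (F : Type u) [Field F] (p r p₁ r₁ : Vec m F),
  Submodule.span F {p₁, r₁} = Submodule.span F {p, r} → Sg m F p₁ r₁ = Sg m F p r

/-- Piece COMMU: the groups are commutative. -/
def COMMU : Prop := SIEG.{u} → ∀ (m : ℕ) (F : Type u) [Field F] (p r : Vec m F),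
  IsLine m F p r → IsMulCommutative ↥(Sg m F p r)

/-- Piece NEBOT: the groups are non-trivial. -/
def NEBOT : Prop := SIEG.{u} → ∀ (m : ℕ) (F : Type u) [Field F] (p r : Vec m F),
  IsLine m F p r → Sg m F p r ≠ ⊥

/-- Piece CONJ: conjugation by an isometry. -/
def CONJ : Prop := ∀ (m : ℕ) (F : Type u) [Field F] (p r : Vec m F), IsLine m F p r →
  ∀ g : OG m F, IsLine m F (act m F g p) (act m F g r) ∧
    conjBy (Sg m F p r) g = Sg m F (act m F g p) (act m F g r)

/-- Piece NORM: normal forms for a pair of singular lines. -/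
def NORM : Prop := ∀ (m : ℕ) (F : Type u) [Field F] (p r p' r' : Vec m F),
  IsLine m F p r → IsLine m F p' r' →
  (bp m F p p' = 0 ∧ bp m F p r' = 0 ∧ bp m F r p' = 0 ∧ bp m F r r' = 0) ∨
  (bp m F p p' * bp m F r r' - bp m F p r' * bp m F r p' ≠ 0) ∨
  (∃ p₁ r₁ r₁' : Vec m F, IsLine m F p₁ r₁ ∧ IsLine m F p₁ r₁' ∧
    Submodule.span F {p₁, r₁} = Submodule.span F {p, r} ∧
    Submodule.span F {p₁, r₁'} = Submodule.span F {p', r'}) ∨
  (∃ p₁ r₁ p₁' r₁' : Vec m F, IsLine m F p₁ r₁ ∧ IsLine m F p₁' r₁' ∧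
    Submodule.span F {p₁, r₁} = Submodule.span F {p, r} ∧
    Submodule.span F {p₁', r₁'} = Submodule.span F {p', r'} ∧
    bp m F p₁ p₁' = 0 ∧ bp m F p₁ r₁' = 0 ∧ bp m F r₁ p₁' = 0 ∧ bp m F r₁ r₁' = 1 ∧
    LinearIndependent F ![p₁, p₁'])

/-- Piece C0: mutually orthogonal lines give commuting groups. -/
def C0 : Prop := SIEG.{u} → ∀ (m : ℕ) (F : Type u) [Field F] (p r p' r' : Vec m F),
  IsLine m F p r → IsLine m F p' r' →
  bp m F p p' = 0 → bp m F p r' = 0 → bp m F r p' = 0 → bp m F r r' = 0 →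
  ⁅Sg m F p r, Sg m F p' r'⁆ = ⊥

/-- Piece R1A: lines through a common point give commuting groups. -/
def R1A : Prop := SIEG.{u} → ∀ (m : ℕ) (F : Type u) [Field F] (p r r' : Vec m F),
  IsLine m F p r → IsLine m F p r' → ⁅Sg m F p r, Sg m F p r'⁆ = ⊥

/-- Piece R1B: the commutator case. -/
def R1B : Prop := SIEG.{u} → ∀ (m : ℕ) (F : Type u) [Field F] (p r p' r' : Vec m F),
  IsLine m F p r → IsLine m F p' r' →
  bp m F p p' = 0 → bp m F p r' = 0 → bp m F r p' = 0 → bp m F r r' = 1 →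
  LinearIndependent F ![p, p'] →
  RootCommutatorCase (Sig m F) (Sg m F p r) (Sg m F p' r')

/-- Piece R2: opposite lines give a rank one pair generating an image of `SL₂(F)`. -/
def R2 : Prop := SIEG.{u} → SPAN.{u} → ∀ (m : ℕ) (F : Type u) [Field F] (p r p' r' : Vec m F),
  IsLine m F p r → IsLine m F p' r' →
  bp m F p p' * bp m F r r' - bp m F p r' * bp m F r p' ≠ 0 →
  IsRankOnePair (Sg m F p r) (Sg m F p' r') ∧ IsPSL2PairOver F (Sg m F p r) (Sg m F p' r')

/-- Piece CO: two singular lines have a common opposite singular line. -/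
def CO : Prop := ∀ (m : ℕ) (F : Type u) [Field F] (p r p' r' : Vec m F),
  IsLine m F p r → IsLine m F p' r' →
  ∃ x y : Vec m F, IsLine m F x y ∧
    bp m F p x * bp m F r y - bp m F p y * bp m F r x ≠ 0 ∧
    bp m F p' x * bp m F r' y - bp m F p' y * bp m F r' x ≠ 0

/-- Piece EXCL: the commutator case excludes a rank one pair. -/
def EXCL : Prop := ∀ (G : Type u) [Group G] (S : Set (Subgroup G)) (A B : Subgroup G),
  IsMulCommutative ↥A → IsMulCommutative ↥B → RootCommutatorCase S A B → ¬ IsRankOnePair A B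

/-- Piece TR: transfer of a family of subgroups to the subgroup it generates. -/
def TR : Prop := ∀ (G : Type u) [Group G] (k : Type v) [Field k] (S : Set (Subgroup G)),
  (∀ A ∈ S, IsMulCommutative ↥A) → (∀ A ∈ S, A ≠ ⊥) →
  (∀ A ∈ S, ∀ g : G, conjBy A g ∈ S) →
  (∀ A ∈ S, ∀ B ∈ S, ⁅A, B⁆ = ⊥ ∨ IsRankOnePair A B ∨ RootCommutatorCase S A B) →
  (∀ A ∈ S, ∀ B ∈ S, IsRankOnePair A B → IsPSL2PairOver k A B) →
  IsKRootSubgroupSet k ((fun A : Subgroup G => A.subgroupOf (⨆ B ∈ S, B)) '' S)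

end Cfsg.Agent.Lib.Helper83.SgStmt
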