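import Mathlib
import Cfsg.Prelude.Def_RootSubgroups
import Cfsg.Agent.Lib.Helper83.RankOne

set_option autoImplicit false

namespace Cfsg.Agent.Lib.Helper83.RootSub

open Cfsg Cfsg.Agent.Lib.Helper83.RankOne
open scoped commutatorElement

variable {G : Type*} [Group G]

theorem comm_of_commutator_eq_bot {A B : Subgroup G} (h : ⁅A, B⁆ = ⊥) {a b : G} (ha : a ∈ A)
    (hb : b ∈ B) : a * b = b * a := by
  have h1 : ⁅a, b⁆ ∈ ⁅A, B⁆ := Subgroup.commutator_mem_commutator ha hb
  rw [h, Subgroup.mem_bot, commutatorElement_eq_one_iff_mul_comm] at h1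
  exact h1

theorem commutator_eq_bot_of_comm {A B : Subgroup G} (h : ∀ a ∈ A, ∀ b ∈ B, a * b = b * a) :
    ⁅A, B⁆ = ⊥ := by
  rw [Subgroup.commutator_eq_bot_iff_le_centralizer]
  intro a ha
  rw [Subgroup.mem_centralizer_iff]
  intro b hb
  exact (h a ha b hb).symm

theorem conjBy_eq_of_commute {C : Subgroup G} {g : G} (h : ∀ c ∈ C, g * c = c * g) :
    conjBy C g = C := by
  ext x
  rw [mem_conjBy]
  constructor
  · intro hx
    have h1 : g * (g⁻¹ * x * g) = (g⁻¹ * x * g) * g := h _ hx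
    have e : x = g⁻¹ * x * g := by
      apply mul_right_cancel (b := g)
      rw [← h1]; group
    rw [e]; exact hx
  · intro hx
    rw [mul_assoc, ← h x hx, inv_mul_cancel_left]
    exact hx

theorem conjBy_eq_of_mem_sup {A F : Subgroup G} (hF : ∀ f ∈ F, ∀ a ∈ A, f * a = a * f) {x : G}
    (hx : x ∈ F ⊔ A) : conjBy A x = A := by
  refine sup_induction_gen (P := fun x => conjBy A x = A) ?_ ?_ ?_ ?_ hx
  · intro f hf; exact conjBy_eq_of_commute (hF f hf)
  · intro a ha; exact conjBy_of_mem ha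
  · exact conjBy_one A
  · intro x y hx hy; rw [← conjBy_conjBy, hy, hx]

theorem exists_partner {S : Set (Subgroup G)} {A : Subgroup G} (hAS : A ∈ S)
    (hA : ¬ IsIsolatedIn (FAdj S) S A) : ∃ B ∈ S, IsRankOnePair A B := by
  by_contra hcon
  apply hA
  exact ⟨hAS, fun B => ⟨fun h1 => hcon ⟨B, h1.2.1, h1.2.2⟩,
    fun h1 => hcon ⟨B, h1.1, RankOnePair_symm h1.2.2⟩⟩⟩

variable {A B : Subgroup G}

theorem unipotent_symm (hp : IsRankOnePair A B) {C : Subgroup G}
    (hC : C ∈ unipotentSubgroups A B) : C ∈ unipotentSubgroups B A := by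
  obtain ⟨x, hx, rfl⟩ := hC
  have hA : A ∈ unipotentSubgroups B A := right_mem_unipotent (RankOnePair_symm hp)
  exact conjBy_mem_unipotent hA (by rwa [sup_comm])

/-- A unipotent subgroup other than `A` cannot lie in `F ⊔ A` when `F` centralizes `A`. -/
theorem absurd_of_unipotent_le (hp : IsRankOnePair A B) {F : Subgroup G}
    (hF : ∀ f ∈ F, ∀ a ∈ A, f * a = a * f) {C : Subgroup G}
    (hC : C ∈ unipotentSubgroups A B) (hCA : C ≠ A) (hle : C ≤ F ⊔ A) : False := by
  obtain ⟨-, hsup⟩ := isRankOnePair_of_mem_unipotent hp hC (left_mem_unipotent A B) hCA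
  have hB : B ≤ F ⊔ A := by
    calc B ≤ A ⊔ B := le_sup_right
      _ = C ⊔ A := hsup.symm
      _ ≤ F ⊔ A := sup_le hle le_sup_right
  obtain ⟨b, hb, hb1⟩ := exists_mem_ne_one (right_ne_bot hp)
  exact hb1 (eq_one_of_conjBy_eq (RankOnePair_symm hp) hb (conjBy_eq_of_mem_sup hF (hB hb)))

/-- conjugating `C` by `d ∈ B` stays inside `⁅B, C⁆ ⊔ C` -/
theorem conjBy_le_commutator_sup {B C : Subgroup G} {d : G} (hd : d ∈ B) :
    conjBy C d ≤ ⁅B, C⁆ ⊔ C := by
  intro x hx
  rw [mem_conjBy] at hx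
  have h3 : ⁅d, d⁻¹ * x * d⁆ ∈ ⁅B, C⁆ := Subgroup.commutator_mem_commutator hd hx
  have h4 := Subgroup.mul_mem _ (Subgroup.mem_sup_left (T := C) h3)
    (Subgroup.mem_sup_right (S := ⁅B, C⁆) hx)
  have e : ⁅d, d⁻¹ * x * d⁆ * (d⁻¹ * x * d) = x := by rw [commutatorElement_def]; group
  rwa [e] at h4

variable {S : Set (Subgroup G)}

/-- A member with a rank one partner meets every other member trivially. -/
theorem inf_eq_bot_or_eq (hS : IsRootSubgroupSet S) {A C : Subgroup G} (hA : A ∈ S) (hC : C ∈ S)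
    (hp : IsRankOnePair A C) {B : Subgroup G} (hB : B ∈ S) : A ⊓ B = ⊥ ∨ A = B := by
  by_contra hcon
  push Not at hcon
  obtain ⟨hne, hAB⟩ := hcon
  obtain ⟨d, hd, hd1⟩ := exists_mem_ne_one hne
  obtain ⟨hdA, hdB⟩ := hd
  rcases hS.pair B hB C hC with h1 | h1 | h1
  · apply hd1
    apply eq_one_of_conjBy_eq hp hdA
    exact conjBy_eq_of_commute (fun c hc => comm_of_commutator_eq_bot h1 hdB hc)
  · obtain ⟨c, hc, hc1, hcd⟩ := hp.cond_left d hdA hd1
    obtain ⟨c', hc', hc1', hcd'⟩ := h1.cond_left d hdB hd1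
    have hAeq : A = conjBy B (c * c'⁻¹) := by
      rw [← conjBy_conjBy, hcd', ← hcd]
      exact (conjBy_inv_cancel' A c).symm
    have hAu : A ∈ unipotentSubgroups B C := by
      rw [hAeq]
      exact conjBy_mem_unipotent (left_mem_unipotent B C)
        (Subgroup.mem_sup_right (C.mul_mem hc (C.inv_mem hc')))
    obtain ⟨hpAB, -⟩ := isRankOnePair_of_mem_unipotent h1 hAu (left_mem_unipotent B C) hAB
    exact hd1 (eq_one_of_conjBy_eq hpAB hdA (conjBy_of_mem hdB))
  · obtain ⟨hF, hcen, -, -⟩ := h1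
    have hFC : ∀ f ∈ ⁅B, C⁆, ∀ c ∈ C, f * c = c * f :=
      fun f hf c hc => hcen f hf c (Subgroup.mem_sup_right hc)
    have hCu : conjBy C d ∈ unipotentSubgroups C A :=
      unipotent_symm hp (conjBy_right_mem_unipotent hp hdA)
    have hCne : conjBy C d ≠ C := fun hcon => hd1 (eq_one_of_conjBy_eq hp hdA hcon)
    exact absurd_of_unipotent_le (RankOnePair_symm hp) hFC hCu hCne (conjBy_le_commutator_sup hdB)

/-- The commutator case cannot occur between a member inside a rank one group and one of its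
unipotent subgroups. -/
theorem commCase_absurd (hS : IsRootSubgroupSet S) (hA : A ∈ S) (hB : B ∈ S)
    (hp : IsRankOnePair A B) {F : Subgroup G} (hF : F ∈ S) (hle : F ≤ A ⊔ B)
    (hc : RootCommutatorCase S F A) : False := by
  obtain ⟨hF2, hcen, hgen, -⟩ := hc
  obtain ⟨f, hf, hf1⟩ := exists_mem_ne_one (hS.ne_bot F hF)
  have hF2A : ∀ c ∈ ⁅F, A⁆, ∀ a ∈ A, c * a = a * c :=
    fun c hc a ha => hcen c hc a (Subgroup.mem_sup_right ha)
  by_cases hn : conjBy A f = A
  · have hle2 : ⁅F, A⁆ ≤ A := by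
      rw [← hgen f hf hf1, Subgroup.closure_le]
      rintro x ⟨a, ha, rfl⟩
      have h1 : f * a * f⁻¹ ∈ conjBy A f := conj_mem_conjBy ha f
      rw [hn] at h1
      exact A.mul_mem h1 (A.inv_mem ha)
    rcases inf_eq_bot_or_eq hS hA hB hp hF2 with h1 | h1
    · rw [inf_eq_right.mpr hle2] at h1
      exact hS.ne_bot _ hF2 h1
    · apply hS.ne_bot _ hF2
      apply commutator_eq_bot_of_comm
      intro x hx a ha
      have ha' : a ∈ ⁅F, A⁆ := h1 ▸ ha
      exact (hcen a ha' x (Subgroup.mem_sup_left hx)).symm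
  · have hu : conjBy A f ∈ unipotentSubgroups A B := ⟨f, hle hf, rfl⟩
    exact absurd_of_unipotent_le hp hF2A hu hn (conjBy_le_commutator_sup hf)

/-- A member of `S` inside the rank one group `A ⊔ B` is a unipotent subgroup or central. -/
theorem unipotent_or_central (hS : IsRootSubgroupSet S) (hA : A ∈ S) (hB : B ∈ S)
    (hp : IsRankOnePair A B) {F : Subgroup G} (hF : F ∈ S) (hle : F ≤ A ⊔ B) :
    F ∈ unipotentSubgroups A B ∨ ∀ f ∈ F, ∀ x ∈ A ⊔ B, f * x = x * f := by
  have key : ∀ {A B : Subgroup G}, A ∈ S → B ∈ S → IsRankOnePair A B → F ≤ A ⊔ B →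
      IsRankOnePair F A → F ∈ unipotentSubgroups A B := by
    intro A B hA hB hp hle h1
    obtain ⟨f, hf, hf1⟩ := exists_mem_ne_one (hS.ne_bot F hF)
    obtain ⟨a, ha, ha1, hfa⟩ := h1.cond_left f hf hf1
    have h2 : F = conjBy (conjBy A f⁻¹) a := by
      rw [← hfa]; exact (conjBy_inv_cancel' F a).symm
    rw [h2]
    exact conjBy_mem_unipotent (conjBy_mem_unipotent (left_mem_unipotent A B)
      (Subgroup.inv_mem _ (hle hf))) (Subgroup.mem_sup_left ha)
  rcases hS.pair F hF A hA with h1 | h1 | h1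
  · rcases hS.pair F hF B hB with h2 | h2 | h2
    · right
      intro f hf x hx
      refine sup_induction_gen (P := fun x => f * x = x * f) ?_ ?_ ?_ ?_ hx
      · intro a ha; exact comm_of_commutator_eq_bot h1 hf ha
      · intro b hb; exact comm_of_commutator_eq_bot h2 hf hb
      · simp
      · intro x y hx hy
        rw [← mul_assoc, hx, mul_assoc, hy, mul_assoc]
    · left
      have h3 := key hB hA (RankOnePair_symm hp) (by rwa [sup_comm]) h2
      exact unipotent_symm (RankOnePair_symm hp) h3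
    · exfalso
      exact commCase_absurd hS hB hA (RankOnePair_symm hp) hF (by rwa [sup_comm]) h2
  · left
    exact key hA hB hp hle h1
  · exfalso
    exact commCase_absurd hS hA hB hp hF hle h1

end Cfsg.Agent.Lib.Helper83.RootSub
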